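import Mathlib

/-!
# S3068, task T7b: lifting the involution
-/

set_option autoImplicit false

namespace Cfsg.Agent.H250.J7

open Subgroup
open scoped commutatorElement

theorem t7b_lift {p : ℕ} [Fact p.Prime] {Y X : Type*} [Group Y] [Finite Y] [Group X] (π : Y →* X) (hπ : Function.Surjective π)
    (hK : ¬ p ∣ Nat.card π.ker) {A : Subgroup Y} (hA : IsPGroup p A) (hAK : ∀ a ∈ A, ∀ k ∈ π.ker, a * k = k * a)
    {E : Subgroup X} (hAE : A.map π ≤ E) (hEJ : ∀ J : Subgroup X, J.Normal → A.map π ≤ J → E ≤ J)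
    (hEE : ⁅E, E⁆ = E) {x y z : X} (hx : x ∈ E) (hy : y ∈ E) (hyz : y * y = z) (hxy : x * y * x⁻¹ = z * y)
    (hz : ∀ e ∈ E, z * e = e * z) :
    ∃ t : Y, t * t = 1 ∧ π t = z ∧ ∀ a ∈ A, t * a = a * t := by
  -- the normal closure
  set Γ : Subgroup Y := normalClosure (A : Set Y) with hΓ
  have hAΓ : A ≤ Γ := subset_normalClosure
  have hΓn : Γ.Normal := normalClosure_normal
  -- `Γ` centralises the kernel
  have hΓK : ∀ g ∈ Γ, ∀ k ∈ π.ker, g * k = k * g := by
    have h1 : Γ ≤ centralizer (π.ker : Set Y) := by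
      rw [hΓ]
      have hn : (centralizer (π.ker : Set Y)).Normal := inferInstance
      refine normalClosure_le_normal fun a ha => ?_
      intro k hk
      exact (hAK a ha k hk).symm
    intro g hg k hk
    exact (h1 hg k hk).symm
  have hEΓ : E ≤ Γ.map π := hEJ _ (hΓn.map π hπ) (map_mono hAΓ)
  set ΓE : Subgroup Y := Γ ⊓ E.comap π with hΓE
  have hmapE : ΓE.map π = E := by
    apply le_antisymm
    · rw [map_le_iff_le_comap]; exact inf_le_right
    · intro e he
      obtain ⟨g, hg, rfl⟩ := hEΓ he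
      exact ⟨g, ⟨hg, he⟩, rfl⟩
  set D : Subgroup Y := ⁅ΓE, ΓE⁆ with hD
  have hmapD : D.map π = E := by rw [hD, map_commutator, hmapE, hEE]
  have hDΓ : D ≤ Γ := by
    rw [hD]
    exact (commutator_le.2 fun a ha b hb => by
      rw [commutatorElement_def]
      exact Γ.mul_mem (Γ.mul_mem (Γ.mul_mem ha.1 hb.1) (Γ.inv_mem ha.1)) (Γ.inv_mem hb.1))
  -- elements over `C(E)` commute with `D`
  have key : ∀ g ∈ Γ, (∀ e ∈ E, π g * e = e * π g) → ∀ w ∈ D, g * w = w * g := by
    intro g hg hge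
    have hker : ∀ w ∈ ΓE, g * w * g⁻¹ * w⁻¹ ∈ π.ker := by
      intro w hw
      rw [MonoidHom.mem_ker, map_mul, map_mul, map_mul, map_inv, map_inv, hge _ hw.2]
      group
    -- the centraliser of `g` contains the commutators
    have hc : D ≤ centralizer ({g} : Set Y) := by
      rw [hD, commutator_le]
      intro a ha b hb
      rw [mem_centralizer_singleton_iff]
      have h1 : g * a * g⁻¹ = (g * a * g⁻¹ * a⁻¹) * a := by group
      have h2 : g * b * g⁻¹ = (g * b * g⁻¹ * b⁻¹) * b := by group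
      set k := g * a * g⁻¹ * a⁻¹ with hk
      set l := g * b * g⁻¹ * b⁻¹ with hl
      have hkK : k ∈ π.ker := hker a ha
      have hlK : l ∈ π.ker := hker b hb
      have ka := hΓK a ha.1 k hkK
      have kb := hΓK b hb.1 k hkK
      have la := hΓK a ha.1 l hlK
      have lb := hΓK b hb.1 l hlK
      have hkΓ : k ∈ Γ := by
        rw [hk]; exact Γ.mul_mem (Γ.mul_mem (Γ.mul_mem hg ha.1) (Γ.inv_mem hg)) (Γ.inv_mem ha.1)
      have kl := hΓK k hkΓ l hlK
      have h3 : g * ⁅a, b⁆ * g⁻¹ = ⁅a, b⁆ := by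
        have e1 : g * ⁅a, b⁆ * g⁻¹ = (g * a * g⁻¹) * (g * b * g⁻¹) * (g * a * g⁻¹)⁻¹ * (g * b * g⁻¹)⁻¹ := by
          rw [commutatorElement_def]; group
        rw [e1, h1, h2, commutatorElement_def]
        have e2 : k * a * (l * b) = (k * l) * (a * b) := by
          calc k * a * (l * b) = k * (a * l) * b := by group
            _ = k * (l * a) * b := by rw [la]
            _ = _ := by group
        have e3 : (k * a)⁻¹ * (l * b)⁻¹ = (k * l)⁻¹ * (a⁻¹ * b⁻¹) := by
          have e4 : (l * b) * (k * a) = (k * l) * (b * a) := by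
            calc (l * b) * (k * a) = l * (b * k) * a := by group
              _ = l * (k * b) * a := by rw [kb]
              _ = (l * k) * (b * a) := by group
              _ = _ := by rw [kl]
          have e5 : (k * l) * (b * a) = (b * a) * (k * l) := by
            have f1 : b * a * k = k * (b * a) := by rw [mul_assoc, ka, ← mul_assoc, kb, mul_assoc]
            have f2 : b * a * l = l * (b * a) := by rw [mul_assoc, la, ← mul_assoc, lb, mul_assoc]
            rw [← mul_assoc (b * a), f1, mul_assoc k (b * a), f2]; group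
          calc (k * a)⁻¹ * (l * b)⁻¹ = ((l * b) * (k * a))⁻¹ := by group
            _ = ((b * a) * (k * l))⁻¹ := by rw [e4, e5]
            _ = _ := by group
        have e6 : (k * l) * (a * b) * (k * l)⁻¹ = a * b := by
          have f1 : a * b * k = k * (a * b) := by rw [mul_assoc, kb, ← mul_assoc, ka, mul_assoc]
          have f2 : a * b * l = l * (a * b) := by rw [mul_assoc, lb, ← mul_assoc, la, mul_assoc]
          rw [mul_inv_eq_iff_eq_mul, ← mul_assoc (a * b), f1, mul_assoc k (a * b), f2]; group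
        calc k * a * (l * b) * (k * a)⁻¹ * (l * b)⁻¹ = (k * a * (l * b)) * ((k * a)⁻¹ * (l * b)⁻¹) := by group
          _ = ((k * l) * (a * b) * (k * l)⁻¹) * (a⁻¹ * b⁻¹) := by rw [e2, e3]; group
          _ = a * b * a⁻¹ * b⁻¹ := by rw [e6]; group
      rw [mul_inv_eq_iff_eq_mul] at h3
      exact h3.symm
    intro w hw
    have := hc hw
    rw [mem_centralizer_singleton_iff] at this
    exact this.symm
  -- the lifts
  obtain ⟨x', hx', hx'e⟩ : x ∈ D.map π := by rw [hmapD]; exact hx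
  obtain ⟨y', hy', hy'e⟩ : y ∈ D.map π := by rw [hmapD]; exact hy
  have hxΓ := hDΓ hx'
  have hyΓ := hDΓ hy'
  set t := x' * y' * x'⁻¹ * y'⁻¹ with ht
  have htΓ : t ∈ Γ := Γ.mul_mem (Γ.mul_mem (Γ.mul_mem hxΓ hyΓ) (Γ.inv_mem hxΓ)) (Γ.inv_mem hyΓ)
  have hπt : π t = z := by
    rw [ht, map_mul, map_mul, map_mul, map_inv, map_inv, hx'e, hy'e, hxy, mul_inv_cancel_right]
  have hπy : π (y' * y') = z := by rw [map_mul, hy'e, hyz]
  have hty : t * y' = y' * t := key t htΓ (by rw [hπt]; exact hz) y' hy'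
  have hyy : (y' * y') * x' = x' * (y' * y') := key _ (Γ.mul_mem hyΓ hyΓ) (by rw [hπy]; exact hz) x' hx'
  have htt : t * t = 1 := by
    have e1 : x' * y' * x'⁻¹ = t * y' := by rw [ht]; group
    have e2 : x' * (y' * y') * x'⁻¹ = (t * t) * (y' * y') := by
      calc x' * (y' * y') * x'⁻¹ = (x' * y' * x'⁻¹) * (x' * y' * x'⁻¹) := by group
        _ = t * (y' * t) * y' := by rw [e1]; group
        _ = t * (t * y') * y' := by rw [hty]
        _ = _ := by group
    rw [← hyy, mul_inv_cancel_right] at e2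
    exact (mul_eq_right.1 e2.symm)
  refine ⟨t, htt, hπt, fun a ha => ?_⟩
  -- the commutator map on `A`
  have hcK : ∀ b ∈ A, t * b * t⁻¹ * b⁻¹ ∈ π.ker := by
    intro b hb
    rw [MonoidHom.mem_ker, map_mul, map_mul, map_mul, map_inv, map_inv, hπt, hz _ (hAE ⟨b, hb, rfl⟩)]
    group
  have hpow : ∀ n : ℕ, t * a ^ n * t⁻¹ * (a ^ n)⁻¹ = (t * a * t⁻¹ * a⁻¹) ^ n := by
    intro n
    induction n with
    | zero => simp
    | succ n ih =>
      have e1 := hAK (a ^ n) (A.pow_mem ha n) _ (hcK a ha)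
      rw [pow_succ (t * a * t⁻¹ * a⁻¹), ← ih]
      calc t * a ^ (n + 1) * t⁻¹ * (a ^ (n + 1))⁻¹
          = (t * a ^ n * t⁻¹) * (t * a * t⁻¹ * a⁻¹) * (a ^ n)⁻¹ := by rw [pow_succ]; group
        _ = (t * a ^ n * t⁻¹) * ((a ^ n)⁻¹ * (a ^ n)) * (t * a * t⁻¹ * a⁻¹) * (a ^ n)⁻¹ := by
            rw [inv_mul_cancel, mul_one]
        _ = (t * a ^ n * t⁻¹ * (a ^ n)⁻¹) * ((a ^ n) * (t * a * t⁻¹ * a⁻¹)) * (a ^ n)⁻¹ := by group
        _ = (t * a ^ n * t⁻¹ * (a ^ n)⁻¹) * (t * a * t⁻¹ * a⁻¹) := by rw [e1]; group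
  set c := t * a * t⁻¹ * a⁻¹ with hc
  have hcK' : c ∈ π.ker := hcK a ha
  obtain ⟨k, hk⟩ := hA ⟨a, ha⟩
  have hk' : a ^ p ^ k = 1 := congrArg Subtype.val hk
  have h1 : c ^ p ^ k = 1 := by
    rw [← hpow, hk']; group
  have h2 : c = 1 := by
    have h3 : orderOf c ∣ p ^ k := orderOf_dvd_of_pow_eq_one h1
    have h4 : orderOf c ∣ Nat.card π.ker := by
      have := orderOf_dvd_natCard (⟨c, hcK'⟩ : ↥π.ker)
      rwa [← Subgroup.orderOf_coe] at this
    rcases (Nat.dvd_prime_pow Fact.out).1 h3 with ⟨j, -, hj⟩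
    rcases Nat.eq_zero_or_pos j with hj0 | hj0
    · rw [hj0, pow_zero] at hj
      exact orderOf_eq_one_iff.1 hj
    · exfalso
      apply hK
      exact ((dvd_pow_self p hj0.ne').trans (hj ▸ dvd_rfl)).trans h4
  rw [hc, mul_inv_eq_one, mul_inv_eq_iff_eq_mul] at h2
  exact h2

end Cfsg.Agent.H250.J7
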